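import Cfsg.Agent.H141.Ux.Defs

/-!
# UX (S5716), UF1: the lift of a symplectic space of characteristic two to an orthogonal space (interface)

`Lft Φ H Qt π Ht` : `π : Vt → V` is surjective, the polar form of `Qt` is the pull back of `B`, the kernel is spanned by a
vector `r` with `Qt r = 1`, and `Ht ≤ O(Qt)` is the full preimage of `H ≤ Sp(V)`.

`ExLft` (helper994): lifts exist.
-/

set_option autoImplicit false

namespace Cfsg.Agent.H124.UX

open QuadraticMap Cfsg.Agent.LieClassical.OrthCore Cfsg.Agent.H847.Bs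

structure Lft {F V Vt : Type*} [Field F] [AddCommGroup V] [Module F V] [AddCommGroup Vt] [Module F Vt] (Φ : Frm F V)
    (H : Subgroup (V ≃ₗ[F] V)) (Qt : QuadraticForm F Vt) (π : Vt →ₗ[F] V) (Ht : Subgroup (Vt ≃ₗ[F] Vt)) (r : Vt) :
    Prop where
  surj : Function.Surjective π
  pol : ∀ x y, polar Qt x y = Φ.B (π x) (π y)
  kr : π r = 0
  Qr : Qt r = 1
  ker : ∀ x, π x = 0 → ∃ c : F, x = c • r
  mem : ∀ g, g ∈ Ht ↔ g ∈ O Qt ∧ ∃ h ∈ H, ∀ x, π (g x) = h (π x)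
  ex : ∀ h ∈ H, ∃ g ∈ Ht, ∀ x, π (g x) = h (π x)

/-- lifts exist -/
def ExLft : Prop := ∀ (F V : Type) [Field F] [Finite F] [AddCommGroup V] [Module F V] [Module.Finite F V]
  (Φ : Frm F V) (H : Subgroup (V ≃ₗ[F] V)), IsSp Φ → (2 : F) = 0 → H ≤ Φ.Iso →
  ∃ (Vt : Type) (_ : AddCommGroup Vt) (_ : Module F Vt) (_ : Module.Finite F Vt) (Qt : QuadraticForm F Vt)
    (π : Vt →ₗ[F] V) (Ht : Subgroup (Vt ≃ₗ[F] Vt)) (r : Vt), Lft Φ H Qt π Ht r

end Cfsg.Agent.H124.UX
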